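import Mathlib

/-!
# Morphisms of `O_X`-modules from compatible linear maps over the affine opens
-/

set_option autoImplicit false

universe u

open CategoryTheory AlgebraicGeometry Opposite TopologicalSpace

noncomputable section

namespace Groth.Agent.H17.AffHom

variable {X : Scheme.{u}} {M N : X.Modules}

/-- Sections agreeing on the affine opens inside agree. -/
theorem eq_of_affine (W : X.Opens) {x y : Γ(N, W)}
    (h : ∀ (U : X.affineOpens) (i : U.1 ≤ W),
      N.presheaf.map (homOfLE i).op x = N.presheaf.map (homOfLE i).op y) : x = y := by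
  refine TopCat.Sheaf.eq_of_locally_eq' (⟨N.presheaf, N.isSheaf⟩ : TopCat.Sheaf AddCommGrpCat.{u} X.carrier)
    (fun U : {U : X.affineOpens // U.1 ≤ W} => U.1.1) W (fun U => homOfLE U.2) ?_ x y
    (fun U => h U.1 U.2)
  intro p hp
  obtain ⟨U, hU, hpU, hle⟩ := exists_isAffineOpen_mem_and_subset (x := p) (U := W) hp
  exact Opens.mem_iSup.2 ⟨⟨⟨U, hU⟩, hle⟩, hpU⟩

/-- Morphisms of modules agreeing over the affine opens are equal. -/
theorem hom_ext {φ ψ : M ⟶ N} (h : ∀ (U : X.affineOpens) x, φ.app U.1 x = ψ.app U.1 x) : φ = ψ := by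
  ext W x
  refine eq_of_affine W fun U i => ?_
  exact (ConcreteCategory.congr_hom (φ.mapPresheaf.naturality (homOfLE i).op) x).symm.trans
    ((h U _).trans (ConcreteCategory.congr_hom (ψ.mapPresheaf.naturality (homOfLE i).op) x))

/-- A morphism of modules from compatible linear maps over the affine opens. -/
theorem exists_hom (f : ∀ U : X.affineOpens, Γ(M, U.1) →ₗ[Γ(X, U.1)] Γ(N, U.1))
    (hn : ∀ (U V : X.affineOpens) (h : V.1 ≤ U.1) x,
      f V (M.presheaf.map (homOfLE h).op x) = N.presheaf.map (homOfLE h).op (f U x)) :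
    ∃ φ : M ⟶ N, ∀ (U : X.affineOpens) x, φ.app U.1 x = f U x := by
  let η : (Scheme.AffineZariskiSite.toOpensFunctor X).op ⋙ M.presheaf ⟶
      (Scheme.AffineZariskiSite.toOpensFunctor X).op ⋙ N.presheaf :=
    { app := fun U => AddCommGrpCat.ofHom (f ⟨U.unop.1, U.unop.2⟩).toAddMonoidHom
      naturality := fun U V i => by
        refine AddCommGrpCat.hom_ext (AddMonoidHom.ext fun x => ?_)
        exact hn ⟨U.unop.1, U.unop.2⟩ ⟨V.unop.1, V.unop.2⟩
          (Scheme.AffineZariskiSite.toOpens_mono i.unop.le) x }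
  let g : M.presheaf ⟶ N.presheaf :=
    Functor.IsCoverDense.restrictHomEquivHom (G := Scheme.AffineZariskiSite.toOpensFunctor X)
      (K := Opens.grothendieckTopology X) (ℱ := M.presheaf)
      (ℱ' := (⟨N.presheaf, N.isSheaf⟩ : TopCat.Sheaf AddCommGrpCat.{u} X.carrier)) η
  have hg : (Scheme.AffineZariskiSite.toOpensFunctor X).op.whiskerLeft g = η :=
    (Functor.IsCoverDense.restrictHomEquivHom (G := Scheme.AffineZariskiSite.toOpensFunctor X)
      (K := Opens.grothendieckTopology X) (ℱ := M.presheaf)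
      (ℱ' := (⟨N.presheaf, N.isSheaf⟩ : TopCat.Sheaf AddCommGrpCat.{u} X.carrier))).symm_apply_apply _
  have hgU : ∀ (U : X.affineOpens) x, g.app (op U.1) x = f U x := fun U x =>
    ConcreteCategory.congr_hom (NatTrans.congr_app hg (op ⟨U.1, U.2⟩)) x
  have hlin : ∀ (W : X.Opens) (r : Γ(X, W)) (x : Γ(M, W)),
      g.app (op W) (r • x) = r • g.app (op W) x := fun W r x => by
    refine eq_of_affine W fun U i => ?_
    refine (ConcreteCategory.congr_hom (g.naturality (homOfLE i).op) (r • x)).symm.trans ?_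
    rw [ConcreteCategory.comp_apply, hgU U, Scheme.Modules.map_smul, map_smul,
      Scheme.Modules.map_smul, ← hgU U]
    exact congrArg _ (ConcreteCategory.congr_hom (g.naturality (homOfLE i).op) x)
  exact ⟨⟨PresheafOfModules.homMk g fun W r x => hlin W.unop r x⟩, hgU⟩

end Groth.Agent.H17.AffHom
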