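import Groth.Prelude.Def_KoszulSh
import Groth.Agent.H17.KoszSh.AffHom

/-!
# Functoriality of Koszul complexes of cosections
-/

set_option autoImplicit false

universe u

open CategoryTheory AlgebraicGeometry Opposite TopologicalSpace exteriorPower

noncomputable section

namespace Groth.Agent.H17.KoszSh

variable {X : Scheme.{u}} {E F : X.Modules} {s : E ⟶ Coh.structureModule X} {t : F ⟶ Coh.structureModule X}

/-- A morphism on sections as a linear map. -/
def appL (f : E ⟶ F) (U : X.Opens) : Γ(E, U) →ₗ[Γ(X, U)] Γ(F, U) where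
  toFun := f.app U
  map_add' := map_add (f.app U).hom
  map_smul' r x := Scheme.Modules.Hom.app_smul f r x

@[simp] theorem appL_apply (f : E ⟶ F) (U : X.Opens) (x : Γ(E, U)) : appL f U x = f.app U x := rfl

/-- Every section of a term is a combination of the decomposable ones. -/
theorem term_induction (C : KoszSh.Cx E s) (p : ℕ) (U : X.affineOpens) {P : Γ(C.K.X p, U.1) → Prop}
    (hgen : ∀ e, P ((C.loc p U).symm (ιMulti _ p e))) (h0 : P 0) (hadd : ∀ x y, P x → P y → P (x + y))
    (hsmul : ∀ (r : Γ(X, U.1)) x, P x → P (r • x)) (x : Γ(C.K.X p, U.1)) : P x := by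
  have h : ∀ y : ↥(⋀[Γ(X, U.1)]^p Γ(E, U.1)), P ((C.loc p U).symm y) := fun y => by
    have hy : y ∈ Submodule.span Γ(X, U.1) (Set.range (ιMulti Γ(X, U.1) p (M := Γ(E, U.1)))) := by
      rw [ιMulti_span]; trivial
    induction hy using Submodule.span_induction with
    | mem y hy => obtain ⟨e, rfl⟩ := hy; exact hgen e
    | zero => rw [map_zero]; exact h0
    | add a b _ _ ha hb => rw [map_add]; exact hadd _ _ ha hb
    | smul r a _ ha => rw [map_smul]; exact hsmul r _ ha
  simpa using h (C.loc p U x)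

/-- The exterior power of `f` read through the affine identifications. -/
def locMap (C : KoszSh.Cx E s) (D : KoszSh.Cx F t) (f : E ⟶ F) (p : ℕ) (U : X.affineOpens) :
    Γ(C.K.X p, U.1) →ₗ[Γ(X, U.1)] Γ(D.K.X p, U.1) :=
  (D.loc p U).symm.toLinearMap ∘ₗ exteriorPower.map p (appL f U.1) ∘ₗ (C.loc p U).toLinearMap

theorem locMap_gen (C : KoszSh.Cx E s) (D : KoszSh.Cx F t) (f : E ⟶ F) (p : ℕ) (U : X.affineOpens)
    (e : Fin p → Γ(E, U.1)) :
    locMap C D f p U ((C.loc p U).symm (ιMulti _ p e)) =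
      (D.loc p U).symm (ιMulti _ p (fun j => f.app U.1 (e j))) := by
  simp only [locMap, LinearMap.comp_apply, LinearEquiv.coe_toLinearMap, LinearEquiv.apply_symm_apply,
    exteriorPower.map_apply_ιMulti]
  rfl

theorem exists_termHom (C : KoszSh.Cx E s) (D : KoszSh.Cx F t) (f : E ⟶ F) (p : ℕ) :
    ∃ φ : C.K.X p ⟶ D.K.X p, ∀ (U : X.affineOpens) (e : Fin p → Γ(E, U.1)),
      φ.app U.1 ((C.loc p U).symm (ιMulti _ p e)) = (D.loc p U).symm (ιMulti _ p (fun j => f.app U.1 (e j))) := by
  obtain ⟨φ, hφ⟩ := AffHom.exists_hom (fun U => locMap C D f p U) (fun U V h x => by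
    induction x using term_induction C p U with
    | hgen e =>
      rw [locMap_gen]
      refine (congrArg _ (C.loc_res p U V h e)).trans ?_
      rw [locMap_gen]
      refine Eq.trans ?_ (D.loc_res p U V h _).symm
      refine congrArg _ (congrArg _ (funext fun j => ?_))
      exact ConcreteCategory.congr_hom (f.mapPresheaf.naturality (homOfLE h).op) (e j)
    | h0 => simp
    | hadd x y hx hy => simp only [map_add, hx, hy]
    | hsmul r x hx => simp only [Scheme.Modules.map_smul, map_smul, hx])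
  exact ⟨φ, fun U e => (hφ U _).trans (locMap_gen C D f p U e)⟩

theorem termHom_ext (C : KoszSh.Cx E s) {M : X.Modules} (p : ℕ) {φ ψ : C.K.X p ⟶ M}
    (h : ∀ (U : X.affineOpens) (e : Fin p → Γ(E, U.1)),
      φ.app U.1 ((C.loc p U).symm (ιMulti _ p e)) = ψ.app U.1 ((C.loc p U).symm (ιMulti _ p e))) : φ = ψ := by
  refine AffHom.hom_ext fun U x => ?_
  induction x using term_induction C p U with
  | hgen e => exact h U e
  | h0 => simp
  | hadd x y hx hy => simp only [map_add, hx, hy]
  | hsmul r x hx => simp only [Scheme.Modules.Hom.app_smul, hx]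

theorem secForm_comp (f : E ⟶ F) (hf : f ≫ t = s) (U : X.Opens) (x : Γ(E, U)) :
    KoszSh.secForm t U (f.app U x) = KoszSh.secForm s U x := by
  subst hf
  rfl

theorem existsUnique_chainMap (f : E ⟶ F) (hf : f ≫ t = s) (C : KoszSh.Cx E s) (D : KoszSh.Cx F t) :
    ∃! φ : C.K ⟶ D.K, ∀ (p : ℕ) (U : X.affineOpens) (e : Fin p → Γ(E, U.1)),
      (φ.f p).app U.1 ((C.loc p U).symm (ιMulti _ p e)) =
        (D.loc p U).symm (ιMulti _ p (fun j => f.app U.1 (e j))) := by
  choose φ hφ using exists_termHom C D f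
  refine ⟨⟨φ, ?_⟩, hφ, fun ψ hψ => HomologicalComplex.hom_ext _ _ fun p =>
    termHom_ext C p fun U e => (hψ p U e).trans (hφ p U e).symm⟩
  rintro i p (rfl : p + 1 = i)
  refine termHom_ext C (p + 1) fun U e => ?_
  change (D.K.d (p + 1) p).app U.1 ((φ (p + 1)).app U.1 _) = (φ p).app U.1 ((C.K.d (p + 1) p).app U.1 _)
  rw [hφ, C.rule, D.rule]
  refine Eq.symm ?_
  simp only [KoszSh.dGen, map_sum, map_smul, Scheme.Modules.Hom.app_smul, hφ, secForm_comp f hf]

end Groth.Agent.H17.KoszSh
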