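import Groth.Agent.H17.KoszSh.Exact
import Groth.Agent.H17.KoszSh.Functorial
import Groth.Agent.H11Tilde.ModLoc
import Groth.Agent.H29Fitt.Admissible
import Groth.Prelude.Def_FlatMod2

/-!
# The Koszul complex of a regular section is a resolution
-/

set_option autoImplicit false

universe u

open CategoryTheory AlgebraicGeometry Opposite TopologicalSpace Limits

noncomputable section

namespace Groth.Agent.H17.KoszSh

variable {X : Scheme.{u}} {E : X.Modules} {s : E ⟶ Coh.structureModule X}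

/-- Through the identifications the differential is the contraction. -/
theorem loc_d (C : KoszSh.Cx E s) (p : ℕ) (U : X.affineOpens) (x : Γ(C.K.X (p + 1), U.1)) :
    (C.loc p U ((C.K.d (p + 1) p).app U.1 x) : ExteriorAlgebra Γ(X, U.1) Γ(E, U.1)) =
      contract (KoszSh.secForm s U.1) (C.loc (p + 1) U x : ExteriorAlgebra Γ(X, U.1) Γ(E, U.1)) := by
  induction x using term_induction C (p + 1) U with
  | hgen e =>
    rw [C.rule, LinearEquiv.apply_symm_apply, LinearEquiv.apply_symm_apply, coe_dGen,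
      exteriorPower.ιMulti_apply_coe]
  | h0 => simp
  | hadd x y hx hy => simp only [map_add, Submodule.coe_add, hx, hy]
  | hsmul r x hx => simp only [Scheme.Modules.Hom.app_smul, map_smul, Submodule.coe_smul, hx]

/-- Exactness on sections over an affine open with a basis sent to a weakly regular sequence. -/
theorem exact_sections_of_basis (C : KoszSh.Cx E s) {n : ℕ} (U : X.affineOpens)
    (b : Module.Basis (Fin n) Γ(X, U.1) Γ(E, U.1))
    (h : RingTheory.Sequence.IsWeaklyRegular Γ(X, U.1) (List.ofFn fun k => KoszSh.secForm s U.1 (b k)))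
    (p : ℕ) (t : Γ(C.K.X (p + 1), U.1)) (ht : (C.K.d (p + 1) p).app U.1 t = 0) :
    ∃ a : Γ(C.K.X (p + 2), U.1), (C.K.d (p + 2) (p + 1)).app U.1 a = t := by
  obtain ⟨z, hz, hzd⟩ := exact_of_isWeaklyRegular b _ h p _ (C.loc (p + 1) U t).2
    (by rw [← loc_d, ht, map_zero, Submodule.coe_zero])
  refine ⟨(C.loc (p + 2) U).symm ⟨z, hz⟩, (C.loc (p + 1) U).injective (Subtype.ext ?_)⟩
  rw [loc_d, LinearEquiv.apply_symm_apply]
  exact hzd

/-- A basis with weakly regular values restricts to standard opens. -/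
theorem exists_basis_basicOpen (hE : Coh.IsQCoh E) {n : ℕ} (U : X.affineOpens) (g : Γ(X, U.1))
    (b : Module.Basis (Fin n) Γ(X, U.1) Γ(E, U.1))
    (h : RingTheory.Sequence.IsWeaklyRegular Γ(X, U.1) (List.ofFn fun k => KoszSh.secForm s U.1 (b k))) :
    ∃ b' : Module.Basis (Fin n) Γ(X, (X.affineBasicOpen g).1) Γ(E, (X.affineBasicOpen g).1),
      RingTheory.Sequence.IsWeaklyRegular Γ(X, (X.affineBasicOpen g).1)
        (List.ofFn fun k => KoszSh.secForm s (X.affineBasicOpen g).1 (b' k)) := by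
  letI := Module.compHom Γ(E, X.basicOpen g) (algebraMap Γ(X, U.1) Γ(X, X.basicOpen g))
  haveI := U.2.isLocalization_basicOpen g
  haveI : IsScalarTower Γ(X, U.1) Γ(X, X.basicOpen g) Γ(E, X.basicOpen g) :=
    ⟨fun a c m => by
      change (algebraMap Γ(X, U.1) Γ(X, X.basicOpen g) a * c) • m = _
      rw [mul_smul]; rfl⟩
  haveI := H29Fitt.isLocalizedModule_resLin E hE U.2 g
  haveI : Module.Flat Γ(X, U.1) Γ(X, X.basicOpen g) := IsLocalization.flat _ (Submonoid.powers g)
  refine ⟨b.ofIsLocalizedModule Γ(X, X.basicOpen g) (Submonoid.powers g) (H29Fitt.resLin E g), ?_⟩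
  have h' := h.of_flat (S := Γ(X, X.basicOpen g))
  rw [List.map_ofFn] at h'
  have he : (fun k => KoszSh.secForm s (X.basicOpen g)
      ((b.ofIsLocalizedModule Γ(X, X.basicOpen g) (Submonoid.powers g) (H29Fitt.resLin E g)) k)) =
      (algebraMap Γ(X, U.1) Γ(X, X.basicOpen g)) ∘ fun k => KoszSh.secForm s U.1 (b k) := by
    funext k
    rw [Module.Basis.ofIsLocalizedModule_apply]
    exact ConcreteCategory.congr_hom (s.mapPresheaf.naturality (homOfLE (X.basicOpen_le g)).op) (b k)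
  exact he.symm ▸ h'

theorem isZero_homology_of_qcoh {n : ℕ} (hq' : Coh.IsQCoh E)
    (hs : ∀ x : X, ∃ U : X.affineOpens, x ∈ U.1 ∧
      ∃ b : Module.Basis (Fin n) Γ(X, U.1) Γ(E, U.1),
        RingTheory.Sequence.IsWeaklyRegular Γ(X, U.1) (List.ofFn fun k => KoszSh.secForm s U.1 (b k)))
    (C : KoszSh.Cx E s) (q : ℕ) (hq : 1 ≤ q) : IsZero (C.K.homology q) := by
  obtain ⟨m, rfl⟩ : ∃ m, q = m + 1 := ⟨q - 1, by omega⟩
  rw [← HomologicalComplex.exactAt_iff_isZero_homology,
    C.K.exactAt_iff' (m + 2) (m + 1) m (by simp) (by simp)]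
  refine H11Tilde.exact_of_locally _ fun W t ht x hx => ?_
  obtain ⟨U, hxU, b, hb⟩ := hs x
  obtain ⟨g, hgW, hxg⟩ := U.2.exists_basicOpen_le ⟨x, hx⟩ hxU
  obtain ⟨b', hb'⟩ := exists_basis_basicOpen hq' U g b hb
  obtain ⟨a, ha⟩ := exact_sections_of_basis C (X.affineBasicOpen g) b' hb' m
    ((C.K.X (m + 1)).presheaf.map (homOfLE hgW).op t) ((ConcreteCategory.congr_hom
      ((C.K.d (m + 1) m).mapPresheaf.naturality (homOfLE hgW).op) t).trans
      ((congrArg ((C.K.X m).presheaf.map (homOfLE hgW).op) ht).trans (map_zero _)))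
  exact ⟨X.basicOpen g, hgW, hxg, a, ha⟩

theorem isZero_homology {n : ℕ} (hE : FlatMod.IsFinLocFreeOfRank n E)
    (hs : ∀ x : X, ∃ U : X.affineOpens, x ∈ U.1 ∧
      ∃ b : Module.Basis (Fin n) Γ(X, U.1) Γ(E, U.1),
        RingTheory.Sequence.IsWeaklyRegular Γ(X, U.1) (List.ofFn fun k => KoszSh.secForm s U.1 (b k)))
    (C : KoszSh.Cx E s) (q : ℕ) (hq : 1 ≤ q) : IsZero (C.K.homology q) :=
  isZero_homology_of_qcoh (H29Fitt.isQCoh_of_isFinLocFreeOfRank E hE) hs C q hq

end Groth.Agent.H17.KoszSh
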