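import Groth.Agent.H17.KoszSh.Resolution
import Groth.Agent.H8Props.MiracleFlat
import Groth.Agent.H13CInt.Spread
import Groth.Agent.H05EGA4.Regular2
import Groth.Agent.H29Fitt.FreeLocal

/-!
# Koszul resolutions of complete intersections in Cohen–Macaulay schemes
-/

set_option autoImplicit false

universe u

open CategoryTheory AlgebraicGeometry Opposite TopologicalSpace Limits RingTheory.Sequence

noncomputable section

namespace Groth.Agent.H17.KoszSh

theorem dim_quotient_add_le {R : Type u} [CommRing R] [IsLocalRing R] [IsNoetherianRing R]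
    {I : Ideal R} (hI : I ≠ ⊤) {c : ℕ} (hc : (c : ℕ∞) ≤ I.height) :
    ringKrullDim (R ⧸ I) + (c : WithBot ℕ∞) ≤ ringKrullDim R := by
  haveI : Nontrivial (R ⧸ I) := Ideal.Quotient.nontrivial_iff.2 hI
  haveI : IsLocalRing (R ⧸ I) := .of_surjective' _ Ideal.Quotient.mk_surjective
  obtain ⟨d, hd⟩ := H05EGA4.exists_dim_eq_nat (R ⧸ I)
  rw [hd]
  obtain ⟨l, hl⟩ := Order.le_krullDim_iff.1 ((ringKrullDim_quotient I).symm.trans hd).ge
  let l' : LTSeries (PrimeSpectrum R) := l.map (fun x => x.1) fun _ _ h => h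
  have h1 : (d : ℕ∞) ≤ Order.coheight l'.head := hl ▸ Order.length_le_coheight_head (p := l')
  have h2 : (c : ℕ∞) ≤ Order.height l'.head := by
    refine hc.trans ?_
    rw [← PrimeSpectrum.height_eq_orderHeight]
    exact Ideal.height_mono (l.head.2 : (I : Set R) ⊆ l'.head.asIdeal)
  refine le_trans ?_ (H4Depth.height_add_coheight_le l'.head)
  calc ((d : WithBot ℕ∞) + c) = (((c : ℕ∞) + d : ℕ∞) : WithBot ℕ∞) := by push_cast; rw [add_comm]
    _ ≤ _ := by rw [← WithBot.coe_add]; exact WithBot.coe_le_coe.2 (add_le_add h2 h1)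

/-- In a Cohen–Macaulay local ring `c` elements spanning an ideal of height at least `c` are regular. -/
theorem isWeaklyRegular_of_le_height {R : Type u} [CommRing R] [LocCoh.IsCohenMacaulayLocalRing R] {c : ℕ}
    (f : Fin c → R) (hne : Ideal.span (Set.range f) ≠ ⊤)
    (hh : (c : ℕ∞) ≤ (Ideal.span (Set.range f)).height) : IsWeaklyRegular R (List.ofFn f) := by
  refine H8Props.MiracleFlat.isWeaklyRegular_of_supportDim _ R (fun r hr => ?_)
    LocCoh.IsCohenMacaulayLocalRing.supportDim_eq_depth ?_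
  · obtain ⟨i, rfl⟩ := List.mem_ofFn.1 hr
    exact IsLocalRing.le_maximalIdeal hne (Ideal.subset_span ⟨i, rfl⟩)
  · have hI : (Ideal.ofList (List.ofFn f) • (⊤ : Submodule R R)) = Ideal.span (Set.range f) := by
      rw [smul_eq_mul, Ideal.mul_top, H13CInt.ofList_ofFn]
    rw [hI, Module.supportDim_quotient_eq_ringKrullDim, Module.supportDim_self_eq_ringKrullDim,
      List.length_ofFn]
    exact dim_quotient_add_le hne hh

variable {X Y : Scheme.{u}}

/-- Near a point, generators of an ideal of the expected height form a regular sequence. -/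
theorem exists_regular_gens [IsLocallyNoetherian X]
    (hCM : ∀ x : X, LocCoh.IsCohenMacaulayLocalRing (X.presheaf.stalk x))
    (i : Y ⟶ X) [IsClosedImmersion i] (c : ℕ) (y : Y) (U : X.affineOpens) (hy : i y ∈ U.1)
    (g : Fin c → Γ(X, U.1)) (hg : i.ker.ideal U = Ideal.span (Set.range g))
    (hht : (c : ℕ∞) ≤ (RingHom.ker (i.stalkMap y).hom).height) :
    ∃ W : X.affineOpens, i y ∈ W.1 ∧ ∃ f : Fin c → Γ(X, W.1),
      i.ker.ideal W = Ideal.span (Set.range f) ∧ IsWeaklyRegular Γ(X, W.1) (List.ofFn f) := by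
  haveI : IsNoetherianRing Γ(X, U.1) := IsLocallyNoetherian.component_noetherian U
  letI := TopCat.Presheaf.algebra_section_stalk X.presheaf (⟨i y, hy⟩ : U.1)
  haveI := U.2.isLocalization_stalk ⟨i y, hy⟩
  let f₀ : Fin c → X.presheaf.stalk (i y) := algebraMap Γ(X, U.1) (X.presheaf.stalk (i y)) ∘ g
  have hker : RingHom.ker (i.stalkMap y).hom = Ideal.span (Set.range f₀) := by
    rw [H13CInt.ker_stalkMap i y U hy, hg, Ideal.map_span, ← Set.range_comp]
    rfl
  haveI := hCM (i y)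
  have hw : IsWeaklyRegular (X.presheaf.stalk (i y)) (List.ofFn f₀) :=
    isWeaklyRegular_of_le_height f₀ (hker ▸ RingHom.ker_ne_top _) (hker ▸ hht)
  obtain ⟨t, ht, b, hT⟩ := H13CInt.exists_away_isWeaklyRegular (A := X.presheaf.stalk (i y))
    (U.2.primeIdealOf ⟨i y, hy⟩).asIdeal (i.ker.ideal U) f₀ hw (by
      rw [hg, Ideal.map_span, ← Set.range_comp])
  let W := X.affineBasicOpen (U := U) t
  letI : Algebra Γ(X, U.1) Γ(X, W.1) := (X.presheaf.map (homOfLE (X.basicOpen_le t)).op).hom.toAlgebra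
  haveI : IsLocalization.Away t Γ(X, W.1) := U.2.isLocalization_basicOpen t
  obtain ⟨h1, h2⟩ := hT Γ(X, W.1)
  refine ⟨W, ?_, algebraMap Γ(X, U.1) Γ(X, W.1) ∘ b, ?_, h2⟩
  · change i y ∈ X.basicOpen t
    rw [X.mem_basicOpen _ (i y) hy]
    exact IsLocalization.map_units (X.presheaf.stalk (i y))
      (⟨t, ht⟩ : (U.2.primeIdealOf ⟨i y, hy⟩).asIdeal.primeCompl)
  · rw [← h1, ← i.ker.map_ideal (U := W) (V := U) (X.basicOpen_le t)]
    rfl

theorem isWeaklyRegular_ringEquiv {A B : Type u} [CommRing A] [CommRing B] (e : A ≃+* B) {c : ℕ}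
    (f : Fin c → A) (h : IsWeaklyRegular A (List.ofFn f)) : IsWeaklyRegular B (List.ofFn fun k => e (f k)) := by
  rw [H13CInt.isWeaklyRegular_ofFn_iff] at h ⊢
  intro k b hb
  have hmap : ∀ S : Set (Fin c), Ideal.span ((fun k => e (f k)) '' S) =
      (Ideal.span (f '' S)).map (e : A →+* B) := fun S => by
    rw [Ideal.map_span, Set.image_image]; rfl
  rw [hmap] at hb ⊢
  obtain ⟨a, rfl⟩ := e.surjective b
  rw [← map_mul] at hb
  exact Ideal.mem_map_of_mem _ (h k a ((Ideal.apply_mem_of_equiv_iff (f := e)).1 hb))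

/-- Koszul resolution over an affine open by a weakly regular sequence. -/
theorem isZero_homology_freeMod (U : X.affineOpens) {c : ℕ} (f : Fin c → Γ(X, U.1))
    (h : IsWeaklyRegular Γ(X, U.1) (List.ofFn f))
    (s : FlatMod.freeMod (↑U.1) c ⟶ Coh.structureModule (↑U.1))
    (hs : ∀ k : Fin c, KoszSh.secForm s ⊤ ((Limits.Sigma.ι (fun _ : Fin c => Coh.structureModule (↑U.1)) k).app ⊤
      (OmegaSh.strSect (↑U.1) ⊤ 1)) = U.1.topIso.inv (f k))
    (C : KoszSh.Cx (FlatMod.freeMod (↑U.1) c) s) (q : ℕ) (hq : 1 ≤ q) : IsZero (C.K.homology q) := by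
  haveI : IsAffine U.1 := U.2
  refine isZero_homology_of_qcoh (n := c) (H29Fitt.isQuasicoherent_freeMod _ c)
    (fun x => ⟨⟨⊤, isAffineOpen_top _⟩, trivial,
      Module.Basis.mk (v := fun k => H29Fitt.gen (↑U.1 : Scheme.{u}) c k ⊤)
        (Fintype.linearIndependent_iff.2 fun a ha k => congrFun (H29Fitt.gen_independent c ⊤ a ha) k)
        (H29Fitt.gen_span c ⊤).ge, ?_⟩) C q hq
  have he : (fun k => KoszSh.secForm s ⊤ ((Module.Basis.mk (v := fun k => H29Fitt.gen (↑U.1 : Scheme.{u}) c k ⊤)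
      (Fintype.linearIndependent_iff.2 fun a ha k => congrFun (H29Fitt.gen_independent c ⊤ a ha) k)
      (H29Fitt.gen_span c ⊤).ge) k)) = fun k => U.1.topIso.inv (f k) := by
    funext k
    rw [Module.Basis.mk_apply]
    exact hs k
  have h' := isWeaklyRegular_ringEquiv U.1.topIso.commRingCatIsoToRingEquiv.symm f h
  exact he.symm ▸ h'

end Groth.Agent.H17.KoszSh
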