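import Groth.Prelude.Def_KoszulSh
import Mathlib

/-!
# Exactness of the Koszul contraction on an exterior algebra
-/

set_option autoImplicit false

universe u v

noncomputable section

namespace Groth.Agent.H17.KoszSh

open ExteriorAlgebra

variable {R : Type u} [CommRing R] {M : Type v} [AddCommGroup M] [Module R M]

/-- The contraction by a linear form. -/
abbrev contract (φ : M →ₗ[R] R) : ExteriorAlgebra R M →ₗ[R] ExteriorAlgebra R M :=
  CliffordAlgebra.contractLeft (Q := (0 : QuadraticForm R M)) φ

theorem contract_ι_mul (φ : M →ₗ[R] R) (m : M) (x : ExteriorAlgebra R M) :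
    contract φ (ι R m * x) = φ m • x - ι R m * contract φ x :=
  CliffordAlgebra.contractLeft_ι_mul _ m x

theorem contract_algebraMap (φ : M →ₗ[R] R) (r : R) :
    contract φ (algebraMap R (ExteriorAlgebra R M) r) = 0 :=
  CliffordAlgebra.contractLeft_algebraMap _ _ r

theorem contract_contract (φ : M →ₗ[R] R) (x : ExteriorAlgebra R M) : contract φ (contract φ x) = 0 :=
  CliffordAlgebra.contractLeft_contractLeft φ x

/-- The degree `p` part of the subalgebra generated by a submodule. -/
abbrev deg (W : Submodule R M) (p : ℕ) : Submodule R (ExteriorAlgebra R M) :=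
  (W.map (ι R)) ^ p

theorem mem_deg_zero_iff {W : Submodule R M} {x : ExteriorAlgebra R M} :
    x ∈ deg W 0 ↔ ∃ r : R, algebraMap R (ExteriorAlgebra R M) r = x := by
  rw [deg, Submodule.pow_zero, Submodule.mem_one]

theorem ι_mul_mem_deg {W : Submodule R M} {p : ℕ} {w : M} (hw : w ∈ W) {x : ExteriorAlgebra R M}
    (hx : x ∈ deg W p) : ι R w * x ∈ deg W (p + 1) := by
  rw [deg, pow_succ']
  exact Submodule.mul_mem_mul (Submodule.mem_map_of_mem hw) hx

@[elab_as_elim]
theorem deg_succ_induction {W : Submodule R M} {p : ℕ} {P : ExteriorAlgebra R M → Prop}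
    (hmul : ∀ w ∈ W, ∀ y ∈ deg W p, P (ι R w * y)) (hadd : ∀ x y, P x → P y → P (x + y))
    {x : ExteriorAlgebra R M} (hx : x ∈ deg W (p + 1)) : P x := by
  rw [deg, pow_succ'] at hx
  refine Submodule.mul_induction_on hx ?_ hadd
  rintro a ⟨w, hw, rfl⟩ y hy
  exact hmul w hw y hy

theorem contract_mem (φ : M →ₗ[R] R) {W : Submodule R M} : ∀ {p : ℕ} {x : ExteriorAlgebra R M},
    x ∈ deg W (p + 1) → contract φ x ∈ deg W p := by
  intro p
  induction p with
  | zero =>
    intro x hx
    refine deg_succ_induction ?_ ?_ hx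
    · intro w _ y hy
      obtain ⟨r, rfl⟩ := mem_deg_zero_iff.1 hy
      rw [contract_ι_mul, contract_algebraMap, mul_zero, sub_zero]
      exact Submodule.smul_mem _ _ hy
    · intro a b ha hb
      rw [map_add]
      exact add_mem ha hb
  | succ p ih =>
    intro x hx
    refine deg_succ_induction ?_ ?_ hx
    · intro w hw y hy
      rw [contract_ι_mul]
      exact sub_mem (Submodule.smul_mem _ _ hy) (ι_mul_mem_deg hw (ih hy))
    · intro a b ha hb
      rw [map_add]
      exact add_mem ha hb

theorem contract_eq_zero (φ : M →ₗ[R] R) {W : Submodule R M} (hW : ∀ w ∈ W, φ w = 0) :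
    ∀ {p : ℕ} {x : ExteriorAlgebra R M}, x ∈ deg W p → contract φ x = 0 := by
  intro p
  induction p with
  | zero =>
    intro x hx
    obtain ⟨r, rfl⟩ := mem_deg_zero_iff.1 hx
    exact contract_algebraMap φ r
  | succ p ih =>
    intro x hx
    refine deg_succ_induction ?_ ?_ hx
    · intro w hw y hy
      rw [contract_ι_mul, ih hy, hW w hw, zero_smul, mul_zero, sub_zero]
    · intro a b ha hb
      rw [map_add, ha, hb, add_zero]

theorem exists_decomp (W : Submodule R M) (e : M) : ∀ {p : ℕ} {x : ExteriorAlgebra R M},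
    x ∈ deg (W ⊔ Submodule.span R {e}) (p + 1) →
    ∃ a ∈ deg W (p + 1), ∃ c ∈ deg W p, x = a + ι R e * c := by
  intro p
  induction p with
  | zero =>
    intro x hx
    refine deg_succ_induction ?_ ?_ hx
    · intro w hw y hy
      obtain ⟨w', hw', z, hz, rfl⟩ := Submodule.mem_sup.1 hw
      obtain ⟨r, rfl⟩ := Submodule.mem_span_singleton.1 hz
      obtain ⟨t, rfl⟩ := mem_deg_zero_iff.1 hy
      refine ⟨_, ι_mul_mem_deg hw' (mem_deg_zero_iff.2 ⟨t, rfl⟩), _,
        Submodule.smul_mem _ r (mem_deg_zero_iff.2 ⟨t, rfl⟩), ?_⟩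
      rw [map_add, map_smul, add_mul, smul_mul_assoc, mul_smul_comm]
    · rintro _ _ ⟨a, ha, c, hc, rfl⟩ ⟨a', ha', c', hc', rfl⟩
      exact ⟨a + a', add_mem ha ha', c + c', add_mem hc hc', by rw [mul_add]; abel⟩
  | succ p ih =>
    intro x hx
    refine deg_succ_induction ?_ ?_ hx
    · intro w hw y hy
      obtain ⟨w', hw', z, hz, rfl⟩ := Submodule.mem_sup.1 hw
      obtain ⟨r, rfl⟩ := Submodule.mem_span_singleton.1 hz
      obtain ⟨a, ha, c, hc, rfl⟩ := ih hy
      refine ⟨_, ι_mul_mem_deg hw' ha, r • a - ι R w' * c,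
        sub_mem (Submodule.smul_mem _ r ha) (ι_mul_mem_deg hw' hc), ?_⟩
      have hsw : ι R w' * (ι R e * c) = -(ι R e * (ι R w' * c)) := by
        rw [← mul_assoc, ← mul_assoc, eq_neg_iff_add_eq_zero, ← add_mul, ι_add_mul_swap, zero_mul]
      have hee : ι R e * (ι R e * c) = 0 := by rw [← mul_assoc, ι_sq_zero, zero_mul]
      rw [map_add, map_smul, add_mul, mul_add, smul_mul_assoc, mul_add, hsw, hee, add_zero, mul_sub,
        mul_smul_comm]
      abel
    · rintro _ _ ⟨a, ha, c, hc, rfl⟩ ⟨a', ha', c', hc', rfl⟩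
      exact ⟨a + a', add_mem ha ha', c + c', add_mem hc hc', by rw [mul_add]; abel⟩

/-- One step: adjoining a vector `e` whose value is regular modulo the values on `W`. -/
theorem exact_step (φ ψ : M →ₗ[R] R) (W : Submodule R M) (e : M) (hψW : ∀ w ∈ W, ψ w = 0)
    (hψe : ψ e = 1) (hreg : ∀ r : R, φ e * r ∈ W.map φ → r ∈ W.map φ)
    (hW : ∀ p y, y ∈ deg W (p + 1) → contract φ y = 0 → ∃ z ∈ deg W (p + 2), contract φ z = y) :
    ∀ p y, y ∈ deg (W ⊔ Submodule.span R {e}) (p + 1) → contract φ y = 0 →
      ∃ z ∈ deg (W ⊔ Submodule.span R {e}) (p + 2), contract φ z = y := by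
  intro p y hy hd
  obtain ⟨a, ha, c, hc, rfl⟩ := exists_decomp W e hy
  have hle : ∀ q, deg W q ≤ deg (W ⊔ Submodule.span R {e}) q := fun q =>
    pow_le_pow_left' (Submodule.map_mono le_sup_left) q
  have he : e ∈ W ⊔ Submodule.span R {e} := Submodule.mem_sup_right (Submodule.mem_span_singleton_self e)
  have hd' : contract φ a + φ e • c - ι R e * contract φ c = 0 := by
    rw [map_add, contract_ι_mul, ← add_sub_assoc] at hd
    exact hd
  suffices h : contract φ c = 0 → ∃ c' ∈ deg W (p + 1), contract φ c' = c by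
    have hdc : contract φ c = 0 := by
      rcases p with - | p
      · obtain ⟨r, rfl⟩ := mem_deg_zero_iff.1 hc
        exact contract_algebraMap φ r
      · have h2 := congrArg (contract ψ) hd'
        rw [map_zero, map_sub, map_add, map_smul, contract_eq_zero ψ hψW (contract_mem φ ha),
          contract_eq_zero ψ hψW hc, contract_ι_mul, contract_eq_zero ψ hψW (contract_mem φ hc),
          hψe, one_smul, smul_zero, add_zero, zero_sub, mul_zero, sub_zero, neg_eq_zero] at h2
        exact h2
    obtain ⟨c', hc', rfl⟩ := h hdc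
    have hy' : contract φ (a + φ e • c') = 0 := by
      rw [map_add, map_smul]
      rwa [hdc, mul_zero, sub_zero] at hd'
    obtain ⟨a'', ha'', ha'd⟩ := hW p _ (add_mem ha (Submodule.smul_mem _ _ hc')) hy'
    refine ⟨a'' - ι R e * c', sub_mem (hle _ ha'') (ι_mul_mem_deg he (hle _ hc')), ?_⟩
    rw [map_sub, ha'd, contract_ι_mul]
    abel
  intro hdc
  rcases p with - | p
  · obtain ⟨r, rfl⟩ := mem_deg_zero_iff.1 hc
    have ha' : ∃ w ∈ W, ι R w = a := by
      rw [deg, pow_one] at ha
      exact ha
    obtain ⟨w, hw, rfl⟩ := ha'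
    have h0 : φ w + φ e * r = 0 := by
      have hw1 : contract φ (ι R w) = algebraMap R _ (φ w) := CliffordAlgebra.contractLeft_ι _ φ w
      rw [hw1, hdc, mul_zero, sub_zero, Algebra.smul_def, ← map_mul, ← map_add] at hd'
      exact (algebraMap_eq_zero_iff M _).1 hd'
    obtain ⟨w', hw', hr⟩ := hreg r ⟨-w, W.neg_mem hw, by rw [map_neg]; exact (eq_neg_of_add_eq_zero_right h0).symm⟩
    refine ⟨ι R w', ?_, ?_⟩
    · rw [deg, pow_one]
      exact Submodule.mem_map_of_mem hw'
    · rw [← hr]
      exact CliffordAlgebra.contractLeft_ι _ φ w'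
  · exact hW p c hc hdc

/-- Exactness of the Koszul contraction for a weakly regular sequence of values on a basis. -/
theorem exact_of_isWeaklyRegular {n : ℕ} (b : Module.Basis (Fin n) R M) (φ : M →ₗ[R] R)
    (h : RingTheory.Sequence.IsWeaklyRegular R (List.ofFn fun k => φ (b k))) (p : ℕ)
    (y : ExteriorAlgebra R M) (hy : y ∈ ⋀[R]^(p + 1) M) (hd : contract φ y = 0) :
    ∃ z ∈ ⋀[R]^(p + 2) M, contract φ z = y := by
  classical
  let W : ℕ → Submodule R M := fun k => Submodule.span R (b '' {j : Fin n | (j : ℕ) < k})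
  have htop : W n = ⊤ := by
    simp only [W, Fin.is_lt, Set.setOf_true, Set.image_univ]
    exact b.span_eq
  have main : ∀ k, k ≤ n → ∀ p y, y ∈ deg (W k) (p + 1) → contract φ y = 0 →
      ∃ z ∈ deg (W k) (p + 2), contract φ z = y := by
    intro k
    induction k with
    | zero =>
      intro _ p y hy _
      refine ⟨0, zero_mem _, ?_⟩
      rw [map_zero]
      refine Eq.symm (deg_succ_induction ?_ ?_ hy)
      · intro w hw y _
        have : w = 0 := by simpa [W] using hw
        rw [this, map_zero, zero_mul]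
      · intro a b ha hb
        rw [ha, hb, add_zero]
    | succ k ih =>
      intro hk
      have hW : W (k + 1) = W k ⊔ Submodule.span R {b ⟨k, hk⟩} := by
        simp only [W]
        rw [← Submodule.span_union, ← Set.image_singleton (f := b), ← Set.image_union]
        refine congrArg (fun s => Submodule.span R (b '' s)) (Set.ext fun j => ?_)
        simp only [Set.mem_setOf_eq, Set.mem_union, Set.mem_singleton_iff, Fin.ext_iff]
        omega
      rw [hW]
      refine exact_step φ (b.coord ⟨k, hk⟩) (W k) _ (fun w hw => ?_) (by simp) ?_ (ih (by omega))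
      · have hle : W k ≤ LinearMap.ker (b.coord ⟨k, hk⟩) := by
          refine Submodule.span_le.2 ?_
          rintro _ ⟨j, hj, rfl⟩
          have hne : j ≠ ⟨k, hk⟩ := fun hjk => lt_irrefl k (by simpa [hjk] using hj)
          simp [Finsupp.single_apply, hne]
        exact hle hw
      · intro r hr
        rw [RingTheory.Sequence.isWeaklyRegular_iff] at h
        have hI : Submodule.map φ (W k) =
            (Ideal.ofList ((List.ofFn fun i => φ (b i)).take k) • (⊤ : Submodule R R)) := by
          rw [smul_eq_mul, Ideal.mul_top, Submodule.map_span, Ideal.ofList]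
          refine congrArg (Submodule.span R) (Set.ext fun x => ?_)
          simp only [Set.mem_image, Set.mem_setOf_eq, List.mem_take_iff_getElem, List.length_ofFn,
            List.getElem_ofFn, lt_min_iff]
          constructor
          · rintro ⟨_, ⟨j, hj, rfl⟩, rfl⟩
            exact ⟨j, ⟨hj, j.2⟩, rfl⟩
          · rintro ⟨i, ⟨hi, hin⟩, rfl⟩
            exact ⟨_, ⟨⟨i, hin⟩, hi, rfl⟩, rfl⟩
        rw [hI] at hr ⊢
        have hk' := h k (by simpa using hk)
        rw [List.getElem_ofFn] at hk'
        refine (Submodule.Quotient.mk_eq_zero _).1 (hk' ?_)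
        show φ (b ⟨k, hk⟩) • _ = φ (b ⟨k, hk⟩) • 0
        rw [smul_zero, ← Submodule.Quotient.mk_smul]
        exact (Submodule.Quotient.mk_eq_zero _).2 hr
  have hdeg : ∀ q, deg (W n) q = ⋀[R]^q M := fun q => by
    rw [htop, deg, Submodule.map_top]
  have hm := main n le_rfl p y ((hdeg _).symm ▸ hy) hd
  rwa [hdeg] at hm

/-- The boundary of a decomposable element is its contraction. -/
theorem coe_dGen (φ : M →ₗ[R] R) : ∀ (p : ℕ) (e : Fin (p + 1) → M),
    (KoszSh.dGen φ p e : ExteriorAlgebra R M) = contract φ (ExteriorAlgebra.ιMulti R (p + 1) e) := by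
  intro p
  induction p with
  | zero =>
    intro e
    simp only [KoszSh.dGen, Nat.reduceAdd, Fin.isValue]
    rw [Fin.sum_univ_succ, Finset.sum_eq_zero (fun i _ => i.elim0), add_zero]
    simp only [Fin.val_zero, pow_zero, one_mul, Submodule.coe_smul, zero_add,
      exteriorPower.ιMulti_apply_coe, ExteriorAlgebra.ιMulti_succ_apply, ExteriorAlgebra.ιMulti_zero_apply,
      contract_ι_mul]
    rw [← map_one (algebraMap R (ExteriorAlgebra R M)), contract_algebraMap, mul_zero, sub_zero]
  | succ p ih =>
    intro e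
    rw [ExteriorAlgebra.ιMulti_succ_apply (n := p + 1), contract_ι_mul, ← ih]
    simp only [KoszSh.dGen, ← Submodule.subtype_apply, map_sum, map_smul]
    simp only [Submodule.subtype_apply, Submodule.coe_smul, exteriorPower.ιMulti_apply_coe,
      Fin.sum_univ_succ (n := p + 1), Fin.val_zero, pow_zero, one_mul, Fin.succAbove_zero, Fin.val_succ,
      Finset.mul_sum, sub_eq_add_neg, ← Finset.sum_neg_distrib]
    refine congrArg₂ (· + ·) rfl (Finset.sum_congr rfl fun i _ => ?_)
    rw [ExteriorAlgebra.ιMulti_succ_apply, mul_smul_comm, ← neg_smul]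
    refine congrArg₂ (· • ·) ?_ ?_
    · rw [show Matrix.vecTail e i = e i.succ from rfl, pow_succ]; ring
    · refine congrArg₂ (· * ·) ?_ ?_
      · simp
      · refine congrArg _ (funext fun j => ?_)
        simp [Matrix.vecTail]

end Groth.Agent.H17.KoszSh
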