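import Groth.Agent.H17.KoszSh.Resolution
import Groth.Prelude.Def_ClSub2

/-!
# The conormal sheaf of the zero scheme of a regular section
-/

set_option autoImplicit false

universe u v

open CategoryTheory AlgebraicGeometry Opposite TopologicalSpace Limits

noncomputable section

namespace Groth.Agent.H17.KoszSh

/-- A degree one cycle has all coordinates among the values. -/
theorem mem_range_smul_top {R : Type u} [CommRing R] {M : Type v} [AddCommGroup M] [Module R M] {n : ℕ}
    (b : Module.Basis (Fin n) R M) (φ : M →ₗ[R] R)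
    (h : RingTheory.Sequence.IsWeaklyRegular R (List.ofFn fun k => φ (b k))) {e : M} (he : φ e = 0) :
    e ∈ LinearMap.range φ • (⊤ : Submodule R M) := by
  have hd : contract φ (ExteriorAlgebra.ι R e) = 0 := by
    have := CliffordAlgebra.contractLeft_ι (0 : QuadraticForm R M) φ e
    rw [he, map_zero] at this
    exact this
  obtain ⟨z, hz, hzd⟩ := exact_of_isWeaklyRegular b φ h 0 (ExteriorAlgebra.ι R e)
    (by rw [ExteriorAlgebra.exteriorPower, pow_one]; exact ⟨e, rfl⟩) hd
  suffices key : contract φ z ∈ (LinearMap.range φ • (⊤ : Submodule R M)).map (ExteriorAlgebra.ι R) by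
    obtain ⟨e', he', hee⟩ := key
    rw [hzd, ExteriorAlgebra.ι_inj] at hee
    exact hee ▸ he'
  have hz' : z ∈ deg (⊤ : Submodule R M) (0 + 1 + 1) := by
    rw [deg, Submodule.map_top]; exact hz
  refine deg_succ_induction ?_ (fun x y hx hy => by rw [map_add]; exact add_mem hx hy) hz'
  intro a _ y hy
  refine deg_succ_induction ?_ (fun x y hx hy => by rw [mul_add, map_add]; exact add_mem hx hy) hy
  intro c _ t ht
  obtain ⟨r, rfl⟩ := mem_deg_zero_iff.1 ht
  rw [← Algebra.commutes, ← Algebra.smul_def, mul_smul_comm, map_smul, contract_ι_mul,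
    show contract φ (ExteriorAlgebra.ι R c) = algebraMap R _ (φ c) from CliffordAlgebra.contractLeft_ι _ φ c,
    ← Algebra.commutes, ← Algebra.smul_def]
  refine Submodule.smul_mem _ r (sub_mem ?_ ?_) <;>
    · rw [← map_smul]
      exact Submodule.mem_map_of_mem (Submodule.smul_mem_smul ⟨_, rfl⟩ trivial)

variable {X Y : Scheme.{u}}

theorem ideal_of_idealModι (J : X.IdealSheafData) (U : X.Opens) (z : Γ(ClSub.idealMod J, U)) :
    J.subschemeι.app U (OmegaSh.fnSect X U ((ClSub.idealModι J).app U z)) = 0 :=
  ConcreteCategory.congr_hom (congrArg (fun k => Scheme.Modules.Hom.app k U)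
    (kernel.condition (ClSub.toSubscheme J))) z

theorem isIso_pullback_map {n : ℕ} (E : X.Modules) (hE : FlatMod.IsFinLocFreeOfRank n E)
    (s : E ⟶ Coh.structureModule X)
    (hs : ∀ x : X, ∃ U : X.affineOpens, x ∈ U.1 ∧
      ∃ b : Module.Basis (Fin n) Γ(X, U.1) Γ(E, U.1),
        RingTheory.Sequence.IsWeaklyRegular Γ(X, U.1) (List.ofFn fun k => KoszSh.secForm s U.1 (b k)))
    (i : Y ⟶ X) [IsClosedImmersion i] (t : E ⟶ ClSub.idealMod i.ker) [Epi t]
    (hts : t ≫ ClSub.idealModι i.ker = s) : IsIso ((Scheme.Modules.pullback i).map t) := by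
  have hker : ∀ (U : X.affineOpens) (e : Γ(E, U.1)), i.app U.1 (KoszSh.secForm s U.1 e) = 0 := fun U e => by
    subst hts
    have h := ideal_of_idealModι i.ker U.1 (t.app U.1 e)
    rw [← RingHom.mem_ker, Scheme.IdealSheafData.ker_subschemeι_app, Scheme.Hom.ker_apply] at h
    exact h
  -- the kernel of `t` dies after restriction to `Y`
  have h0 : kernel.ι t ≫ (Scheme.Modules.pullbackPushforwardAdjunction i).unit.app E = 0 := by
    refine AffHom.hom_ext fun V z => ?_
    refine TopCat.Sheaf.eq_of_locally_eq'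
      (⟨((Scheme.Modules.pushforward i).obj ((Scheme.Modules.pullback i).obj E)).presheaf,
        Scheme.Modules.isSheaf _⟩ : TopCat.Sheaf AddCommGrpCat.{u} X.carrier)
      (fun O : {O : X.affineOpens // O.1 ≤ V.1 ∧ ∃ b : Module.Basis (Fin n) Γ(X, O.1) Γ(E, O.1),
        RingTheory.Sequence.IsWeaklyRegular Γ(X, O.1) (List.ofFn fun k => KoszSh.secForm s O.1 (b k))} => O.1.1)
      V.1 (fun O => homOfLE O.2.1) ?_ _ _ ?_
    · intro x hx
      obtain ⟨U, hxU, b, hb⟩ := hs x
      obtain ⟨g, hgD, hxg⟩ := U.2.exists_basicOpen_le ⟨x, hx⟩ hxU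
      obtain ⟨b', hb'⟩ := exists_basis_basicOpen (H29Fitt.isQCoh_of_isFinLocFreeOfRank E hE) U g b hb
      exact Opens.mem_iSup.2 ⟨⟨X.affineBasicOpen g, hgD, b', hb'⟩, hxg⟩
    · rintro ⟨O, hO, b, hb⟩
      let e : Γ(E, O.1) := (kernel.ι t).app O.1 ((kernel t).presheaf.map (homOfLE hO).op z)
      have he : KoszSh.secForm s O.1 e = 0 := by
        subst hts
        have h1 : t.app O.1 e = 0 := ConcreteCategory.congr_hom
          (congrArg (fun k => Scheme.Modules.Hom.app k O.1) (kernel.condition t)) _
        change OmegaSh.fnSect X O.1 ((ClSub.idealModι i.ker).app O.1 (t.app O.1 e)) = 0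
        rw [h1, map_zero, map_zero]
      have hue : ((Scheme.Modules.pullbackPushforwardAdjunction i).unit.app E).app O.1 e = 0 := by
        refine Submodule.smul_induction_on (mem_range_smul_top b _ hb he) ?_ ?_
        · rintro r ⟨e', rfl⟩ m _
          rw [Scheme.Modules.Hom.app_smul]
          change i.app O.1 (KoszSh.secForm s O.1 e') •
            (show Γ((Scheme.Modules.pullback i).obj E, i ⁻¹ᵁ O.1) from _) = 0
          rw [hker, zero_smul]
        · intro x y hx hy; rw [map_add, hx, hy, add_zero]
      have hres := ConcreteCategory.congr_hom ((kernel.ι t ≫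
        (Scheme.Modules.pullbackPushforwardAdjunction i).unit.app E).mapPresheaf.naturality
          (homOfLE hO).op) z
      exact hres.symm.trans (hue.trans (map_zero _).symm)
  have hK : (Scheme.Modules.pullback i).map (kernel.ι t) = 0 := by
    apply ((Scheme.Modules.pullbackPushforwardAdjunction i).homEquiv _ _).injective
    rw [Adjunction.homEquiv_unit, Adjunction.homEquiv_unit, Functor.map_zero, comp_zero]
    exact ((Scheme.Modules.pullbackPushforwardAdjunction i).unit.naturality (kernel.ι t)).symm.trans h0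
  haveI : PreservesColimitsOfSize.{0, 0} (Scheme.Modules.pullback i) :=
    (Scheme.Modules.pullbackPushforwardAdjunction i).leftAdjoint_preservesColimits
  have hc := CokernelCofork.mapIsColimit _ (Abelian.epiIsCokernelOfKernel _ (kernelIsKernel t))
    (Scheme.Modules.pullback i)
  exact CokernelCofork.IsColimit.isIso_π _ hc hK

end Groth.Agent.H17.KoszSh
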